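import Groth.Agent.Lib.SqLift10.ExtPush
import Groth.Agent.Lib.LocFreeDual20.Basic
import Groth.Agent.Lib.VA.Tensor
import Groth.Agent.Lib.VA.QCohPullback
import Groth.Agent.Lib.QCoh.Qcqs
import Groth.Agent.Lib.CI20.Seq
import Groth.Agent.Lib.UnivThick.FOT
import Groth.Agent.Lib.PPGen.Maps
import Groth.Agent.Lib.OmegaAff.Basic

/-!
# Lifting locally free modules along nilpotent immersions when `H²` vanishes
-/

set_option autoImplicit false
set_option linter.all false
set_option backward.isDefEq.respectTransparency false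
set_option maxHeartbeats 1000000

universe u

open CategoryTheory CategoryTheory.Limits AlgebraicGeometry

noncomputable section

namespace GrothLib.SqLift10

attribute [local instance] LocFreeHom.hasSheafHom

/-- `H²` of every quasi-coherent module vanishes. -/
def HV (Z : Scheme.{u}) : Prop := ∀ M : Z.Modules, M.IsQuasicoherent → Subsingleton (Coh.HH Z M 2)

theorem hv_of_affineHom {Z W : Scheme.{u}} (i : Z ⟶ W) [IsAffineHom i] (h : HV W) : HV Z := fun M hM => by
  haveI := hM
  obtain ⟨e⟩ := Cohom.nonempty_HH_equiv_pushforward i M 2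
  exact @Equiv.subsingleton _ _ e.toEquiv (h _ (QCoh.isQuasicoherent_pushforward i M))

theorem isQuasicoherent_iHom {Z : Scheme.{u}} {E : Z.Modules} (hE : FlatMod.IsFinLocFree E) (M : Z.Modules)
    [M.IsQuasicoherent] : ((DCoh.sheafHom E).obj M).IsQuasicoherent := by
  haveI := LocFreeDual20.isIso_θ hE M
  haveI : (LocFreeDual20.dual E).IsQuasicoherent :=
    Euler.isQuasicoherent_of_isFinLocFree (LocFreeHom.isFinLocFree_iHom hE (OX.isFinLocFree_structureModule Z))
  exact (SheafOfModules.isQuasicoherent Z.ringCatSheaf).prop_of_iso (asIso (LocFreeDual20.θ E M))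
    (VA.isQCoh_tensor (E := M) (E' := LocFreeDual20.dual E) inferInstance inferInstance)

theorem exists_lift_of_hv {Z W : Scheme.{u}} (c : Z ⟶ W) [IsClosedImmersion c] (hc : c.ker ^ 2 = ⊥) (hZ : HV Z)
    (E : Z.Modules) (hE : FlatMod.IsFinLocFree E) :
    ∃ E' : W.Modules, FlatMod.IsFinLocFree E' ∧ Nonempty ((Scheme.Modules.pullback c).obj E' ≅ E) := by
  let I := c.ker
  let t : Z ⟶ I.subscheme := c.toImage
  haveI : IsIso t := inferInstanceAs (IsIso c.toImage)
  have ht : t ≫ I.subschemeι = c := c.toImage_imageι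
  haveI : HasExt.{u} I.subscheme.Modules := hasExt_of_enoughInjectives _
  have hI : HV I.subscheme := hv_of_affineHom (inv t) hZ
  let E₀ := (Scheme.Modules.pullback (inv t)).obj E
  have hE₀ : FlatMod.IsFinLocFree E₀ := OX.isFinLocFree_pullback (inv t) hE
  haveI : (ClSub.idealMod I).IsQuasicoherent := OmegaAff.isQuasicoherent_idealMod I
  haveI : (CohB1.tensorMod ((Scheme.Modules.pullback I.subschemeι).obj (ClSub.idealMod I)) E₀).IsQuasicoherent :=
    VA.isQCoh_tensor (E := (Scheme.Modules.pullback I.subschemeι).obj (ClSub.idealMod I))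
      (VA.isQCoh_pullback I.subschemeι (M := ClSub.idealMod I) inferInstance)
      (Euler.isQuasicoherent_of_isFinLocFree hE₀)
  obtain ⟨a⟩ := LocFreeDual20.nonempty_ext_addEquiv_HH hE₀
    (CohB1.tensorMod ((Scheme.Modules.pullback I.subschemeι).obj (ClSub.idealMod I)) E₀) 2
  obtain ⟨E', hE', ⟨e⟩⟩ := exists_lift hc E₀ hE₀
    (@Equiv.subsingleton _ _ a.toEquiv (hI _ (isQuasicoherent_iHom hE₀ _)))
  refine ⟨E', hE', ⟨?_⟩⟩
  exact (Scheme.Modules.pullbackCongr ht).symm.app E' ≪≫ (Scheme.Modules.pullbackComp t I.subschemeι).symm.app E' ≪≫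
    (Scheme.Modules.pullback t).mapIso e ≪≫ (Scheme.Modules.pullbackComp t (inv t)).app E ≪≫
    (Scheme.Modules.pullbackCongr (IsIso.hom_inv_id t)).app E ≪≫ (Scheme.Modules.pullbackId _).app E

theorem comap_subschemeι_self {P : Scheme.{u}} (I : P.IdealSheafData) : I.comap I.subschemeι = ⊥ := by
  rw [eq_bot_iff, ← Scheme.IdealSheafData.le_map_iff_comap_le, Scheme.IdealSheafData.map_bot,
    Scheme.IdealSheafData.ker_subschemeι]

theorem exists_lift_nilpotent {P : Scheme.{u}} (hP : HV P) (I : P.IdealSheafData) {n : ℕ} (hI : I ^ n = ⊥)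
    (E : I.subscheme.Modules) (hE : FlatMod.IsFinLocFree E) :
    ∃ E' : P.Modules, FlatMod.IsFinLocFree E' ∧
      Nonempty ((Scheme.Modules.pullback I.subschemeι).obj E' ≅ E) := by
  have key : ∀ m : ℕ, ∃ (h : I ^ (m + 1) ≤ I) (E' : (I ^ (m + 1)).subscheme.Modules), FlatMod.IsFinLocFree E' ∧
      Nonempty ((Scheme.Modules.pullback (Scheme.IdealSheafData.inclusion h)).obj E' ≅ E) := by
    intro m
    induction m with
    | zero =>
      have e : I ^ (0 + 1) = I := pow_one I
      refine ⟨e.le, ?_⟩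
      haveI := PPGen.isIso_inclusion e.le e
      let c := Scheme.IdealSheafData.inclusion e.le
      exact ⟨(Scheme.Modules.pullback (inv c)).obj E, OX.isFinLocFree_pullback (inv c) hE,
        ⟨(Scheme.Modules.pullbackComp c (inv c)).app E ≪≫
          (Scheme.Modules.pullbackCongr (IsIso.hom_inv_id c)).app E ≪≫ (Scheme.Modules.pullbackId _).app E⟩⟩
    | succ m ih =>
      obtain ⟨h, E₁, hE₁, ⟨e₁⟩⟩ := ih
      have h₁ : I ^ (m + 1 + 1) ≤ I ^ (m + 1) := fun U => by
        rw [Scheme.IdealSheafData.ideal_pow, Scheme.IdealSheafData.ideal_pow]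
        exact Ideal.pow_le_pow_right (by omega)
      let c := Scheme.IdealSheafData.inclusion h₁
      haveI : IsClosedImmersion (c ≫ (I ^ (m + 1 + 1)).subschemeι) := by
        rw [Scheme.IdealSheafData.inclusion_subschemeι]; infer_instance
      haveI : IsClosedImmersion c := IsClosedImmersion.of_comp c (I ^ (m + 1 + 1)).subschemeι
      have hc : c.ker ^ 2 = ⊥ := by
        rw [show c.ker = (I ^ (m + 1)).comap (I ^ (m + 1 + 1)).subschemeι from
          CI20.ker_inclusion (sup_eq_right.2 h₁).symm h₁, pow_two, ← UnivThick.comap_mul, eq_bot_iff,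
          ← comap_subschemeι_self (I ^ (m + 1 + 1))]
        refine Scheme.IdealSheafData.comap_mono _ fun U => ?_
        simp only [Scheme.IdealSheafData.ideal_mul, Scheme.IdealSheafData.ideal_pow, Pi.mul_apply, Pi.pow_apply,
          ← pow_add]
        exact Ideal.pow_le_pow_right (by omega)
      obtain ⟨E₂, hE₂, ⟨e₂⟩⟩ := exists_lift_of_hv c hc (hv_of_affineHom (I ^ (m + 1)).subschemeι hP) E₁ hE₁
      refine ⟨h₁.trans h, E₂, hE₂, ⟨?_⟩⟩
      have hcomp : Scheme.IdealSheafData.inclusion h ≫ c = Scheme.IdealSheafData.inclusion (h₁.trans h) := by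
        simp only [c, ← cancel_mono (I ^ (m + 1 + 1)).subschemeι, Category.assoc,
          Scheme.IdealSheafData.inclusion_subschemeι]
      exact (Scheme.Modules.pullbackCongr hcomp).symm.app E₂ ≪≫
        (Scheme.Modules.pullbackComp (Scheme.IdealSheafData.inclusion h) c).symm.app E₂ ≪≫
        (Scheme.Modules.pullback (Scheme.IdealSheafData.inclusion h)).mapIso e₂ ≪≫ e₁
  obtain ⟨h, E₁, hE₁, ⟨e₁⟩⟩ := key n
  let J := I ^ (n + 1)
  haveI : IsIso J.subschemeι :=
    (Scheme.isIso_subschemeι_iff_eq_bot J).2 (eq_bot_iff.2 (le_trans (fun U => by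
      simp only [J, Scheme.IdealSheafData.ideal_pow]
      exact Ideal.pow_le_pow_right (by omega)) (le_of_eq hI)))
  refine ⟨(Scheme.Modules.pullback (inv J.subschemeι)).obj E₁, OX.isFinLocFree_pullback _ hE₁, ⟨?_⟩⟩
  exact (Scheme.Modules.pullbackComp I.subschemeι (inv J.subschemeι)).app E₁ ≪≫
    (Scheme.Modules.pullbackCongr (show I.subschemeι ≫ inv J.subschemeι = Scheme.IdealSheafData.inclusion h from
      (IsIso.comp_inv_eq _).2 (Scheme.IdealSheafData.inclusion_subschemeι h).symm)).app E₁ ≪≫ e₁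

end GrothLib.SqLift10
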