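import Groth.Agent.Lib.SqLift10.Const
import Groth.Agent.Lib.DefUniq10.Def
import Groth.Agent.Lib.DefUniq10.Ext
import Groth.Agent.Lib.LocFreeDual20.ExtGlobal
import Groth.Agent.Lib.LocFreeHom.Basic
import Groth.Agent.Lib.Cohom.Compare

/-!
# Vanishing of `Ext²` into the ideal of a semi-small extension
-/

set_option autoImplicit false
set_option linter.all false
set_option backward.isDefEq.respectTransparency false
set_option maxHeartbeats 1000000

universe u

open CategoryTheory CategoryTheory.Limits AlgebraicGeometry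

noncomputable section

namespace GrothLib.SqLift10

attribute [local instance] LocFreeHom.hasSheafHom

variable {S Z : Scheme.{u}}

/-- `Hom(E, i_* G) ≅ i_* Hom(i^* E, G)`. -/
def sheafHomPushIso (i : Z ⟶ S) (E : S.Modules) :
    Scheme.Modules.pushforward i ⋙ DCoh.sheafHom E ≅
      DCoh.sheafHom ((Scheme.Modules.pullback i).obj E) ⋙ Scheme.Modules.pushforward i :=
  (((DCoh.sheafHomAdj E).comp (Scheme.Modules.pullbackPushforwardAdjunction i)).ofNatIsoLeft
    (NatIso.ofComponents (fun M => OX.pullTensorIso i E M) (fun {M M'} b => OX.pullTensorIso_natural₂ i E b) :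
      (DCoh.tensorBi (X := S)).obj E ⋙ Scheme.Modules.pullback i ≅
        Scheme.Modules.pullback i ⋙ (DCoh.tensorBi (X := Z)).obj ((Scheme.Modules.pullback i).obj E))).rightAdjointUniq
    ((Scheme.Modules.pullbackPushforwardAdjunction i).comp
      (DCoh.sheafHomAdj ((Scheme.Modules.pullback i).obj E)))

/-- Isomorphic modules have isomorphic endomorphism sheaves. -/
def endIso {A B : Z.Modules} (e : A ≅ B) [DCoh.HasSheafHom A] [DCoh.HasSheafHom B] :
    (DCoh.sheafHom A).obj A ≅ (DCoh.sheafHom B).obj B :=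
  (Adjunction.rightAdjointUniq (DCoh.sheafHomAdj A)
    ((DCoh.sheafHomAdj B).ofNatIsoLeft ((DCoh.tensorBi (X := Z)).mapIso e.symm))).app A ≪≫
    (DCoh.sheafHom B).mapIso e

theorem subsingleton_HH_of_iso' {X : Scheme.{u}} {M N : X.Modules} (e : M ≅ N) (n : ℕ)
    (h : Subsingleton (Coh.HH X M n)) : Subsingleton (Coh.HH X N n) := by
  haveI := h
  refine (Function.Surjective.subsingleton (f := Sheaf.H.map ((QCoh.toAbFun X).map e.hom) n) fun y =>
    ⟨Sheaf.H.map ((QCoh.toAbFun X).map e.inv) n y, ?_⟩)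
  rw [← Sheaf.H.map_comp_apply, ← Functor.map_comp, e.inv_hom_id, CategoryTheory.Functor.map_id,
    Sheaf.H.map_id_apply]

/-- `Ext^n(E, i_* i^* E) = H^n(Z, End i^* E)`. -/
theorem subsingleton_ext_push (i : Z ⟶ S) [IsClosedImmersion i] {E : S.Modules} (hE : FlatMod.IsFinLocFree E)
    [HasExt.{u} S.Modules] (n : ℕ)
    (h : Subsingleton (Coh.HH Z ((DCoh.sheafHom ((Scheme.Modules.pullback i).obj E)).obj
      ((Scheme.Modules.pullback i).obj E)) n)) :
    Subsingleton (Abelian.Ext.{u} E
      ((Scheme.Modules.pushforward i).obj ((Scheme.Modules.pullback i).obj E)) n) := by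
  obtain ⟨a⟩ := LocFreeDual20.nonempty_ext_addEquiv_HH hE
    ((Scheme.Modules.pushforward i).obj ((Scheme.Modules.pullback i).obj E)) n
  have hG := OX.isFinLocFree_pullback i hE
  haveI := Euler.isQuasicoherent_of_isFinLocFree (LocFreeHom.isFinLocFree_iHom hG hG)
  obtain ⟨b⟩ := Cohom.nonempty_HH_equiv_pushforward i
    ((DCoh.sheafHom ((Scheme.Modules.pullback i).obj E)).obj ((Scheme.Modules.pullback i).obj E)) n
  have e := (sheafHomPushIso i E).app ((Scheme.Modules.pullback i).obj E)
  exact @Equiv.subsingleton _ _ a.toEquiv (subsingleton_HH_of_iso' e.symm n (@Equiv.subsingleton _ _ b.symm.toEquiv h))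

end GrothLib.SqLift10
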